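import Cfsg.Agent.Lib.Helper37.Inv.Tab

set_option autoImplicit false
set_option maxRecDepth 100000

namespace Cfsg.Agent.Lib.Helper37.Inv

open Cfsg.Agent.Lib.Helper37.J3


theorem q0_id : M9.beq (QC 0) ID = true := by decide +kernel
theorem h0_id : M9.beq (HC 0) ID = true := by decide +kernel
theorem cQA : allFrom chkQA 0 32 = true := by decide +kernel
theorem cHA : allFrom chkHA 0 60 = true := by decide +kernel
theorem cQI : allFrom (all2 chkQI 32) 0 32 = true := by decide +kernel
theorem cHI : allFrom (all2 chkHI 60) 0 60 = true := by decide +kernel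
theorem cDJ : allFrom (all2 chkDJ 60) 0 32 = true := by decide +kernel
theorem cQM_0 : allFrom (all2 chkQM 32) 0 16 = true := by decide +kernel
theorem cQM_16 : allFrom (all2 chkQM 32) 16 16 = true := by decide +kernel
theorem u_sq : M9.beq (mm (HC 36) (HC 36)) ID = true := by decide +kernel
theorem v_pow : M9.beq (mm (HC 40) (mm (HC 40) (mm (HC 40) (mm (HC 40) (HC 40))))) ID = true := by
  decide +kernel
theorem uv_cube : M9.beq (mm (mm (HC 36) (HC 40)) (mm (mm (HC 36) (HC 40)) (mm (HC 36) (HC 40)))) ID = true := by
  decide +kernel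
theorem v_ne : scalEq ID (HC 40) = false := by decide +kernel

end Cfsg.Agent.Lib.Helper37.Inv
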