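import Cfsg.Agent.Lib.Helper37.Inv.Tab

set_option autoImplicit false
set_option maxRecDepth 100000

namespace Cfsg.Agent.Lib.Helper37.Inv

open Cfsg.Agent.Lib.Helper37.J3

theorem cHM_0 : allFrom (all2 chkHM 60) 0 10 = true := by decide +kernel
theorem cHM_10 : allFrom (all2 chkHM 60) 10 10 = true := by decide +kernel
theorem cHM_20 : allFrom (all2 chkHM 60) 20 10 = true := by decide +kernel
theorem cHM_30 : allFrom (all2 chkHM 60) 30 10 = true := by decide +kernel
theorem cHM_40 : allFrom (all2 chkHM 60) 40 10 = true := by decide +kernel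
theorem cHM_50 : allFrom (all2 chkHM 60) 50 10 = true := by decide +kernel

end Cfsg.Agent.Lib.Helper37.Inv
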