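import Cfsg.Agent.Lib.Helper37.Inv.Tab

set_option autoImplicit false
set_option maxRecDepth 100000

namespace Cfsg.Agent.Lib.Helper37.Inv

open Cfsg.Agent.Lib.Helper37.J3

theorem cNR_0 : allFrom (all2 chkNR 32) 0 10 = true := by decide +kernel
theorem cNR_10 : allFrom (all2 chkNR 32) 10 10 = true := by decide +kernel
theorem cNR_20 : allFrom (all2 chkNR 32) 20 10 = true := by decide +kernel
theorem cNR_30 : allFrom (all2 chkNR 32) 30 10 = true := by decide +kernel
theorem cNR_40 : allFrom (all2 chkNR 32) 40 10 = true := by decide +kernel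
theorem cNR_50 : allFrom (all2 chkNR 32) 50 10 = true := by decide +kernel
theorem cIV_0 : allFrom (all2 chkIV 60) 0 4 = true := by decide +kernel
theorem cIV_4 : allFrom (all2 chkIV 60) 4 4 = true := by decide +kernel
theorem cIV_8 : allFrom (all2 chkIV 60) 8 4 = true := by decide +kernel
theorem cIV_12 : allFrom (all2 chkIV 60) 12 4 = true := by decide +kernel
theorem cIV_16 : allFrom (all2 chkIV 60) 16 4 = true := by decide +kernel
theorem cIV_20 : allFrom (all2 chkIV 60) 20 4 = true := by decide +kernel
theorem cIV_24 : allFrom (all2 chkIV 60) 24 4 = true := by decide +kernel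
theorem cIV_28 : allFrom (all2 chkIV 60) 28 4 = true := by decide +kernel

end Cfsg.Agent.Lib.Helper37.Inv
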