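import Cfsg.Agent.Lib.Helper37.Inv.Tab

set_option autoImplicit false
set_option maxRecDepth 100000

namespace Cfsg.Agent.Lib.Helper37.Inv

open Cfsg.Agent.Lib.Helper37.J3

theorem cx_0 : allFrom chkX 0 500 = true := by decide +kernel
theorem cx_500 : allFrom chkX 500 500 = true := by decide +kernel
theorem cx_1000 : allFrom chkX 1000 500 = true := by decide +kernel
theorem cx_1500 : allFrom chkX 1500 500 = true := by decide +kernel
theorem cx_2000 : allFrom chkX 2000 500 = true := by decide +kernel
theorem cx_2500 : allFrom chkX 2500 500 = true := by decide +kernel
theorem cx_3000 : allFrom chkX 3000 500 = true := by decide +kernel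
theorem cx_3500 : allFrom chkX 3500 500 = true := by decide +kernel
theorem cx_4000 : allFrom chkX 4000 500 = true := by decide +kernel
theorem cx_4500 : allFrom chkX 4500 500 = true := by decide +kernel
theorem cx_5000 : allFrom chkX 5000 500 = true := by decide +kernel
theorem cx_5500 : allFrom chkX 5500 500 = true := by decide +kernel
theorem cx_6000 : allFrom chkX 6000 500 = true := by decide +kernel
theorem cx_6500 : allFrom chkX 6500 500 = true := by decide +kernel

end Cfsg.Agent.Lib.Helper37.Inv
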