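import Cfsg.Agent.Lib.Helper37.Inv.Tab

set_option autoImplicit false
set_option maxRecDepth 100000

namespace Cfsg.Agent.Lib.Helper37.Inv

open Cfsg.Agent.Lib.Helper37.J3

theorem cx_7000 : allFrom chkX 7000 500 = true := by decide +kernel
theorem cx_7500 : allFrom chkX 7500 500 = true := by decide +kernel
theorem cx_8000 : allFrom chkX 8000 500 = true := by decide +kernel
theorem cx_8500 : allFrom chkX 8500 500 = true := by decide +kernel
theorem cx_9000 : allFrom chkX 9000 500 = true := by decide +kernel
theorem cx_9500 : allFrom chkX 9500 500 = true := by decide +kernel
theorem cx_10000 : allFrom chkX 10000 500 = true := by decide +kernel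
theorem cx_10500 : allFrom chkX 10500 500 = true := by decide +kernel
theorem cx_11000 : allFrom chkX 11000 500 = true := by decide +kernel
theorem cx_11500 : allFrom chkX 11500 500 = true := by decide +kernel
theorem cx_12000 : allFrom chkX 12000 500 = true := by decide +kernel
theorem cx_12500 : allFrom chkX 12500 500 = true := by decide +kernel
theorem cx_13000 : allFrom chkX 13000 500 = true := by decide +kernel
theorem cx_13500 : allFrom chkX 13500 500 = true := by decide +kernel

end Cfsg.Agent.Lib.Helper37.Inv
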