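import Cfsg.Agent.Lib.Helper37.Inv.Tab

set_option autoImplicit false
set_option maxRecDepth 100000

namespace Cfsg.Agent.Lib.Helper37.Inv

open Cfsg.Agent.Lib.Helper37.J3

theorem cx_14000 : allFrom chkX 14000 500 = true := by decide +kernel
theorem cx_14500 : allFrom chkX 14500 500 = true := by decide +kernel
theorem cx_15000 : allFrom chkX 15000 500 = true := by decide +kernel
theorem cx_15500 : allFrom chkX 15500 500 = true := by decide +kernel
theorem cx_16000 : allFrom chkX 16000 500 = true := by decide +kernel
theorem cx_16500 : allFrom chkX 16500 500 = true := by decide +kernel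
theorem cx_17000 : allFrom chkX 17000 500 = true := by decide +kernel
theorem cx_17500 : allFrom chkX 17500 500 = true := by decide +kernel
theorem cx_18000 : allFrom chkX 18000 500 = true := by decide +kernel
theorem cx_18500 : allFrom chkX 18500 500 = true := by decide +kernel
theorem cx_19000 : allFrom chkX 19000 500 = true := by decide +kernel
theorem cx_19500 : allFrom chkX 19500 500 = true := by decide +kernel
theorem cx_20000 : allFrom chkX 20000 500 = true := by decide +kernel
theorem cx_20500 : allFrom chkX 20500 500 = true := by decide +kernel

end Cfsg.Agent.Lib.Helper37.Inv
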