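import Cfsg.Agent.Lib.Helper37.Inv.Tab

set_option autoImplicit false
set_option maxRecDepth 100000

namespace Cfsg.Agent.Lib.Helper37.Inv

open Cfsg.Agent.Lib.Helper37.J3

theorem cx_21000 : allFrom chkX 21000 500 = true := by decide +kernel
theorem cx_21500 : allFrom chkX 21500 500 = true := by decide +kernel
theorem cx_22000 : allFrom chkX 22000 500 = true := by decide +kernel
theorem cx_22500 : allFrom chkX 22500 500 = true := by decide +kernel
theorem cx_23000 : allFrom chkX 23000 500 = true := by decide +kernel
theorem cx_23500 : allFrom chkX 23500 500 = true := by decide +kernel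
theorem cx_24000 : allFrom chkX 24000 500 = true := by decide +kernel
theorem cx_24500 : allFrom chkX 24500 500 = true := by decide +kernel
theorem cx_25000 : allFrom chkX 25000 500 = true := by decide +kernel
theorem cx_25500 : allFrom chkX 25500 500 = true := by decide +kernel
theorem cx_26000 : allFrom chkX 26000 163 = true := by decide +kernel

end Cfsg.Agent.Lib.Helper37.Inv
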