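import Cfsg.Agent.Lib.Helper37.J3Chk

/-!
The Frobenius map `x ↦ x²` of the field with four elements on packed rows and matrices
(`lo + hi·ω ↦ (lo + hi) + hi·ω`, since `ω² = ω + 1`).
-/

set_option autoImplicit false

namespace Cfsg.Agent.Lib.Helper37.Inv

open Cfsg.Agent.Lib.Helper37.J3

/-- Frobenius on a packed row -/
def frV (v : ℕ × ℕ) : ℕ × ℕ := (Nat.xor v.1 v.2, v.2)

/-- Frobenius on a packed matrix -/
def frC (M : M9) : M9 :=
  ⟨frV M.r0, frV M.r1, frV M.r2, frV M.r3, frV M.r4, frV M.r5, frV M.r6, frV M.r7, frV M.r8⟩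

end Cfsg.Agent.Lib.Helper37.Inv
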