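import Cfsg.Agent.Lib.Helper37.Inv.Rep
import Cfsg.Agent.Lib.Helper37.Inv.C0
import Cfsg.Agent.Lib.Helper37.Inv.C1
import Cfsg.Agent.Lib.Helper37.Inv.C2
import Cfsg.Agent.Lib.Helper37.Inv.CX0
import Cfsg.Agent.Lib.Helper37.Inv.CX1
import Cfsg.Agent.Lib.Helper37.Inv.CX2
import Cfsg.Agent.Lib.Helper37.Inv.CX3

/-!
The involution `t` of `J₃`, 26163 distinct conjugates of it, and the element tables of
`Q ≅ 2^{1+4}_-` and of a complement `≅ A₅` in its centraliser, read off from the kernel-checked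
matrix certificates.
-/

set_option autoImplicit false

namespace Cfsg.Agent.Lib.Helper37.Inv

open Cfsg.Spor Subgroup Cfsg.Agent.Lib.Helper37.J3

theorem chkX_all : ∀ i < 26163, chkX i = true := by
  intro i hi
  by_cases h0 : i < 500
  · exact allFrom_sound _ _ _ cx_0 i (by omega) (by omega)
  by_cases h500 : i < 1000
  · exact allFrom_sound _ _ _ cx_500 i (by omega) (by omega)
  by_cases h1000 : i < 1500
  · exact allFrom_sound _ _ _ cx_1000 i (by omega) (by omega)
  by_cases h1500 : i < 2000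
  · exact allFrom_sound _ _ _ cx_1500 i (by omega) (by omega)
  by_cases h2000 : i < 2500
  · exact allFrom_sound _ _ _ cx_2000 i (by omega) (by omega)
  by_cases h2500 : i < 3000
  · exact allFrom_sound _ _ _ cx_2500 i (by omega) (by omega)
  by_cases h3000 : i < 3500
  · exact allFrom_sound _ _ _ cx_3000 i (by omega) (by omega)
  by_cases h3500 : i < 4000
  · exact allFrom_sound _ _ _ cx_3500 i (by omega) (by omega)
  by_cases h4000 : i < 4500
  · exact allFrom_sound _ _ _ cx_4000 i (by omega) (by omega)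
  by_cases h4500 : i < 5000
  · exact allFrom_sound _ _ _ cx_4500 i (by omega) (by omega)
  by_cases h5000 : i < 5500
  · exact allFrom_sound _ _ _ cx_5000 i (by omega) (by omega)
  by_cases h5500 : i < 6000
  · exact allFrom_sound _ _ _ cx_5500 i (by omega) (by omega)
  by_cases h6000 : i < 6500
  · exact allFrom_sound _ _ _ cx_6000 i (by omega) (by omega)
  by_cases h6500 : i < 7000
  · exact allFrom_sound _ _ _ cx_6500 i (by omega) (by omega)
  by_cases h7000 : i < 7500
  · exact allFrom_sound _ _ _ cx_7000 i (by omega) (by omega)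
  by_cases h7500 : i < 8000
  · exact allFrom_sound _ _ _ cx_7500 i (by omega) (by omega)
  by_cases h8000 : i < 8500
  · exact allFrom_sound _ _ _ cx_8000 i (by omega) (by omega)
  by_cases h8500 : i < 9000
  · exact allFrom_sound _ _ _ cx_8500 i (by omega) (by omega)
  by_cases h9000 : i < 9500
  · exact allFrom_sound _ _ _ cx_9000 i (by omega) (by omega)
  by_cases h9500 : i < 10000
  · exact allFrom_sound _ _ _ cx_9500 i (by omega) (by omega)
  by_cases h10000 : i < 10500
  · exact allFrom_sound _ _ _ cx_10000 i (by omega) (by omega)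
  by_cases h10500 : i < 11000
  · exact allFrom_sound _ _ _ cx_10500 i (by omega) (by omega)
  by_cases h11000 : i < 11500
  · exact allFrom_sound _ _ _ cx_11000 i (by omega) (by omega)
  by_cases h11500 : i < 12000
  · exact allFrom_sound _ _ _ cx_11500 i (by omega) (by omega)
  by_cases h12000 : i < 12500
  · exact allFrom_sound _ _ _ cx_12000 i (by omega) (by omega)
  by_cases h12500 : i < 13000
  · exact allFrom_sound _ _ _ cx_12500 i (by omega) (by omega)
  by_cases h13000 : i < 13500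
  · exact allFrom_sound _ _ _ cx_13000 i (by omega) (by omega)
  by_cases h13500 : i < 14000
  · exact allFrom_sound _ _ _ cx_13500 i (by omega) (by omega)
  by_cases h14000 : i < 14500
  · exact allFrom_sound _ _ _ cx_14000 i (by omega) (by omega)
  by_cases h14500 : i < 15000
  · exact allFrom_sound _ _ _ cx_14500 i (by omega) (by omega)
  by_cases h15000 : i < 15500
  · exact allFrom_sound _ _ _ cx_15000 i (by omega) (by omega)
  by_cases h15500 : i < 16000
  · exact allFrom_sound _ _ _ cx_15500 i (by omega) (by omega)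
  by_cases h16000 : i < 16500
  · exact allFrom_sound _ _ _ cx_16000 i (by omega) (by omega)
  by_cases h16500 : i < 17000
  · exact allFrom_sound _ _ _ cx_16500 i (by omega) (by omega)
  by_cases h17000 : i < 17500
  · exact allFrom_sound _ _ _ cx_17000 i (by omega) (by omega)
  by_cases h17500 : i < 18000
  · exact allFrom_sound _ _ _ cx_17500 i (by omega) (by omega)
  by_cases h18000 : i < 18500
  · exact allFrom_sound _ _ _ cx_18000 i (by omega) (by omega)
  by_cases h18500 : i < 19000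
  · exact allFrom_sound _ _ _ cx_18500 i (by omega) (by omega)
  by_cases h19000 : i < 19500
  · exact allFrom_sound _ _ _ cx_19000 i (by omega) (by omega)
  by_cases h19500 : i < 20000
  · exact allFrom_sound _ _ _ cx_19500 i (by omega) (by omega)
  by_cases h20000 : i < 20500
  · exact allFrom_sound _ _ _ cx_20000 i (by omega) (by omega)
  by_cases h20500 : i < 21000
  · exact allFrom_sound _ _ _ cx_20500 i (by omega) (by omega)
  by_cases h21000 : i < 21500
  · exact allFrom_sound _ _ _ cx_21000 i (by omega) (by omega)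
  by_cases h21500 : i < 22000
  · exact allFrom_sound _ _ _ cx_21500 i (by omega) (by omega)
  by_cases h22000 : i < 22500
  · exact allFrom_sound _ _ _ cx_22000 i (by omega) (by omega)
  by_cases h22500 : i < 23000
  · exact allFrom_sound _ _ _ cx_22500 i (by omega) (by omega)
  by_cases h23000 : i < 23500
  · exact allFrom_sound _ _ _ cx_23000 i (by omega) (by omega)
  by_cases h23500 : i < 24000
  · exact allFrom_sound _ _ _ cx_23500 i (by omega) (by omega)
  by_cases h24000 : i < 24500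
  · exact allFrom_sound _ _ _ cx_24000 i (by omega) (by omega)
  by_cases h24500 : i < 25000
  · exact allFrom_sound _ _ _ cx_24500 i (by omega) (by omega)
  by_cases h25000 : i < 25500
  · exact allFrom_sound _ _ _ cx_25000 i (by omega) (by omega)
  by_cases h25500 : i < 26000
  · exact allFrom_sound _ _ _ cx_25500 i (by omega) (by omega)
  exact allFrom_sound _ _ _ cx_26000 i (by omega) (by omega)

theorem all2_sound (f : ℕ → ℕ → Bool) (n m lo : ℕ) (h : allFrom (all2 f n) lo m = true) :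
    ∀ i, lo ≤ i → i < lo + m → ∀ j < n, f i j = true := by
  intro i h1 h2 j hj
  have h3 : allFrom (f i) 0 n = true := allFrom_sound _ _ _ h i h1 h2
  exact allFrom_sound _ _ _ h3 j (Nat.zero_le _) (by omega)

theorem QM_all : ∀ i < 32, ∀ j < 32, chkQM i j = true := by
  intro i hi j hj
  by_cases h : i < 16
  · exact all2_sound _ _ _ _ cQM_0 i (by omega) (by omega) j hj
  · exact all2_sound _ _ _ _ cQM_16 i (by omega) (by omega) j hj

theorem QI_all : ∀ i < 32, ∀ j < 32, chkQI i j = true := fun i hi j hj =>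
  all2_sound _ _ _ _ cQI i (by omega) (by omega) j hj

theorem HI_all : ∀ i < 60, ∀ j < 60, chkHI i j = true := fun i hi j hj =>
  all2_sound _ _ _ _ cHI i (by omega) (by omega) j hj

theorem DJ_all : ∀ i < 32, ∀ j < 60, chkDJ i j = true := fun i hi j hj =>
  all2_sound _ _ _ _ cDJ i (by omega) (by omega) j hj

theorem HM_all : ∀ i < 60, ∀ j < 60, chkHM i j = true := by
  intro i hi j hj
  by_cases h1 : i < 10
  · exact all2_sound _ _ _ _ cHM_0 i (by omega) (by omega) j hj
  by_cases h2 : i < 20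
  · exact all2_sound _ _ _ _ cHM_10 i (by omega) (by omega) j hj
  by_cases h3 : i < 30
  · exact all2_sound _ _ _ _ cHM_20 i (by omega) (by omega) j hj
  by_cases h4 : i < 40
  · exact all2_sound _ _ _ _ cHM_30 i (by omega) (by omega) j hj
  by_cases h5 : i < 50
  · exact all2_sound _ _ _ _ cHM_40 i (by omega) (by omega) j hj
  exact all2_sound _ _ _ _ cHM_50 i (by omega) (by omega) j hj

theorem NR_all : ∀ j < 60, ∀ i < 32, chkNR j i = true := by
  intro i hi j hj
  by_cases h1 : i < 10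
  · exact all2_sound _ _ _ _ cNR_0 i (by omega) (by omega) j hj
  by_cases h2 : i < 20
  · exact all2_sound _ _ _ _ cNR_10 i (by omega) (by omega) j hj
  by_cases h3 : i < 30
  · exact all2_sound _ _ _ _ cNR_20 i (by omega) (by omega) j hj
  by_cases h4 : i < 40
  · exact all2_sound _ _ _ _ cNR_30 i (by omega) (by omega) j hj
  by_cases h5 : i < 50
  · exact all2_sound _ _ _ _ cNR_40 i (by omega) (by omega) j hj
  exact all2_sound _ _ _ _ cNR_50 i (by omega) (by omega) j hj

theorem IV_all : ∀ i < 32, ∀ j < 60, chkIV i j = true := by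
  intro i hi j hj
  by_cases h1 : i < 4
  · exact all2_sound _ _ _ _ cIV_0 i (by omega) (by omega) j hj
  by_cases h2 : i < 8
  · exact all2_sound _ _ _ _ cIV_4 i (by omega) (by omega) j hj
  by_cases h3 : i < 12
  · exact all2_sound _ _ _ _ cIV_8 i (by omega) (by omega) j hj
  by_cases h4 : i < 16
  · exact all2_sound _ _ _ _ cIV_12 i (by omega) (by omega) j hj
  by_cases h5 : i < 20
  · exact all2_sound _ _ _ _ cIV_16 i (by omega) (by omega) j hj
  by_cases h6 : i < 24
  · exact all2_sound _ _ _ _ cIV_20 i (by omega) (by omega) j hj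
  by_cases h7 : i < 28
  · exact all2_sound _ _ _ _ cIV_24 i (by omega) (by omega) j hj
  exact all2_sound _ _ _ _ cIV_28 i (by omega) (by omega) j hj

theorem QA_all : ∀ i < 32, chkQA i = true := fun i hi =>
  allFrom_sound _ _ _ cQA i (by omega) (by omega)

theorem HA_all : ∀ j < 60, chkHA j = true := fun j hj =>
  allFrom_sound _ _ _ cHA j (by omega) (by omega)

theorem key_mono : ∀ j, ∀ i, i < j → j < 26163 → keyM (XC i) < keyM (XC j) := by
  intro j
  induction j with
  | zero => intro i hi; omega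
  | succ j ih =>
    intro i hij hj
    have hstep : keyM (XC j) < keyM (XC (j + 1)) := by
      have hc := chkX_all j (by omega)
      unfold chkX at hc
      rw [Bool.and_eq_true] at hc
      have hk := hc.2
      have hb : Nat.blt (Nat.succ j) 26163 = true := by simpa [Nat.blt] using hj
      rw [hb, cond_true] at hk
      exact blt_true hk
    rcases Nat.eq_or_lt_of_le (Nat.lt_succ_iff.mp hij) with rfl | hlt
    · exact hstep
    · exact lt_trans (ih i hlt (by omega)) hstep

section

variable {F : Type*} [Field F] {ω : F} (h2 : (2 : F) = 0) (hω : ω * ω = ω + 1)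

theorem class_tree :
    ∀ i < 26163, ∃ g ∈ H1 h2 hω, J3.Rep ω (g * aG h2 hω * g⁻¹) (XC i) := by
  have ha_mem : aG h2 hω ∈ H1 h2 hω := subset_closure (by simp)
  have hb_mem : bG h2 hω ∈ H1 h2 hω := subset_closure (by simp)
  apply tree_mem (H1 h2 hω) 26163 (fun g i => J3.Rep ω (g * aG h2 hω * g⁻¹) (XC i))
    (fun i => dDep (xd i))
  intro i hi
  have hc := chkX_all i hi
  unfold chkX at hc
  rw [Bool.and_eq_true] at hc
  have hp := hc.1
  by_cases hd : dDep (xd i) = 0
  · left
    have hb : Nat.beq (dDep (xd i)) 0 = true := by rw [hd]; rfl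
    rw [hb, cond_true] at hp
    show J3.Rep ω (1 * aG h2 hω * 1⁻¹) (XC i)
    rw [M9.eq_of_beq hp, one_mul, inv_one, mul_one]
    exact aG_rep h2 hω
  · right
    have hb : Nat.beq (dDep (xd i)) 0 = false := by
      cases hbb : Nat.beq (dDep (xd i)) 0
      · rfl
      · exact absurd (beq_true hbb) hd
    rw [hb, cond_false] at hp
    simp only [Bool.and_eq_true] at hp
    obtain ⟨⟨hp1, hp2⟩, hp3⟩ := hp
    refine ⟨dPar (xd i), blt_true hp1, blt_true hp2, ?_⟩
    by_cases hsi : dSi (xd i) = 0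
    · have hb2 : Nat.beq (dSi (xd i)) 0 = true := by rw [hsi]; rfl
      rw [hb2, cond_true] at hp3
      refine ⟨aG h2 hω, ha_mem, fun g hg => ?_⟩
      have e : aG h2 hω * g * aG h2 hω * (aG h2 hω * g)⁻¹ =
          aG h2 hω * (g * aG h2 hω * g⁻¹) * (aG h2 hω)⁻¹ := by group
      show J3.Rep ω (aG h2 hω * g * aG h2 hω * (aG h2 hω * g)⁻¹) (XC i)
      rw [e]
      exact rep_conj h2 hω (aG_rep h2 hω) hg (by rw [apA_eq]; exact M9.eq_of_beq hp3)
    · have hb2 : Nat.beq (dSi (xd i)) 0 = false := by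
        cases hbb : Nat.beq (dSi (xd i)) 0
        · rfl
        · exact absurd (beq_true hbb) hsi
      rw [hb2, cond_false] at hp3
      refine ⟨bG h2 hω, hb_mem, fun g hg => ?_⟩
      have e : bG h2 hω * g * aG h2 hω * (bG h2 hω * g)⁻¹ =
          bG h2 hω * (g * aG h2 hω * g⁻¹) * (bG h2 hω)⁻¹ := by group
      show J3.Rep ω (bG h2 hω * g * aG h2 hω * (bG h2 hω * g)⁻¹) (XC i)
      rw [e]
      exact rep_conj h2 hω (bG_rep h2 hω) hg (by rw [apB_eq]; exact M9.eq_of_beq hp3)

theorem tJ_order (hF4 : ∀ c : F, c = 0 ∨ c = 1 ∨ c = ω ∨ c = ω + 1) :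
    orderOf (tJ h2 hω) = 2 := by
  haveI : Fact (Nat.Prime 2) := ⟨Nat.prime_two⟩
  refine orderOf_mk_eq (card_center h2 hω hF4) 2 (by norm_num) ⟨aG h2 hω, aG_mem h2 hω⟩ ?_ ?_
  · rw [pow_two]; exact Subtype.ext (aG_sq h2 hω)
  · intro h
    exact rep_ne_one h2 hω (aG_rep h2 hω) (by decide) (congrArg Subtype.val h)

/-- 26163 distinct conjugates of `t` -/
theorem class_data (hF4 : ∀ c : F, c = 0 ∨ c = 1 ∨ c = ω ∨ c = ω + 1) :
    ∃ x : ℕ → J3 F ω, (∀ i < 26163, IsConj (tJ h2 hω) (x i)) ∧
      (∀ i < 26163, ∀ j < 26163, x i = x j → i = j) := by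
  have hZ := card_center h2 hω hF4
  have ht := class_tree h2 hω
  have h : ∀ i, ∃ g : threeJ3 F ω, i < 26163 →
      J3.Rep ω ((g : GL F9 F) * aG h2 hω * (g : GL F9 F)⁻¹) (XC i) := by
    intro i
    by_cases hi : i < 26163
    · obtain ⟨g, hg, hR⟩ := ht i hi
      rw [← threeJ3_eq h2 hω] at hg
      exact ⟨⟨g, hg⟩, fun _ => hR⟩
    · exact ⟨1, fun h => absurd h hi⟩
  choose g hg using h
  let a : threeJ3 F ω := ⟨aG h2 hω, aG_mem h2 hω⟩
  have ha : a * a = 1 := Subtype.ext (aG_sq h2 hω)
  have hXsq : ∀ i, (g i * a * (g i)⁻¹) * (g i * a * (g i)⁻¹) = 1 := by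
    intro i
    calc (g i * a * (g i)⁻¹) * (g i * a * (g i)⁻¹) = g i * (a * a) * (g i)⁻¹ := by group
      _ = 1 := by rw [ha]; group
  refine ⟨fun i => QuotientGroup.mk (g i * a * (g i)⁻¹), ?_, ?_⟩
  · intro i hi
    rw [isConj_iff]
    exact ⟨QuotientGroup.mk (g i), rfl⟩
  · intro i hi j hj hij
    have e := invol_inj hZ _ _ (hXsq i) (hXsq j) hij
    have e' : dM ω (XC i) = dM ω (XC j) := by
      have h1 := hg i hi
      have h2' := hg j hj
      unfold J3.Rep at h1 h2'
      rw [← h1, ← h2']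
      exact congrArg (fun y : threeJ3 F ω => ((y : GL F9 F) : Matrix F9 F9 F)) e
    have hk := keyM_eq_of h2 hω one_ne_zero e'
    by_contra hne
    rcases Nat.lt_or_gt_of_ne hne with hlt | hgt
    · exact absurd hk (Nat.ne_of_lt (key_mono j i hlt hj))
    · exact absurd hk.symm (Nat.ne_of_lt (key_mono i j hgt hi))

include h2 hω in
theorem exists_q : ∃ q : ℕ → J3 F ω, ∀ i < 32, RepJ ω (q i) (QC i) := by
  have h : ∀ i, ∃ x : J3 F ω, i < 32 → RepJ ω x (QC i) := by
    intro i
    by_cases hi : i < 32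
    · have hc := QA_all i hi
      unfold chkQA at hc
      rw [Bool.and_eq_true] at hc
      obtain ⟨x, hx⟩ := RepJ.of_sift (F := F) (ω := ω) h2 hω _ _ hc.2
      exact ⟨x, fun _ => hx⟩
    · exact ⟨1, fun h => absurd h hi⟩
  choose q hq using h
  exact ⟨q, hq⟩

include h2 hω in
theorem exists_h : ∃ h : ℕ → J3 F ω, ∀ j < 60, RepJ ω (h j) (HC j) := by
  have h : ∀ i, ∃ x : J3 F ω, i < 60 → RepJ ω x (HC i) := by
    intro i
    by_cases hi : i < 60
    · have hc := HA_all i hi
      unfold chkHA at hc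
      rw [Bool.and_eq_true] at hc
      obtain ⟨x, hx⟩ := RepJ.of_sift (F := F) (ω := ω) h2 hω _ _ hc.2
      exact ⟨x, fun _ => hx⟩
    · exact ⟨1, fun h => absurd h hi⟩
  choose q hq using h
  exact ⟨q, hq⟩

theorem bor_elim {a b : Bool} (h : (!a || b) = true) (ha : a = true) : b = true := by
  cases a <;> cases b <;> simp_all

/-- the element tables of `Q` and of the complement, inside `J₃` -/
theorem inv_data (hF4 : ∀ c : F, c = 0 ∨ c = 1 ∨ c = ω ∨ c = ω + 1) :
    ∃ (q h : ℕ → J3 F ω),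
      (∀ i < 32, q i * tJ h2 hω = tJ h2 hω * q i) ∧
      (∀ i < 32, ∀ j < 32, q i * q j = q (qm i j)) ∧
      (∀ i < 32, ∀ j < 32, q i = q j → i = j) ∧
      (∀ j < 60, h j * tJ h2 hω = tJ h2 hω * h j) ∧
      (∀ i < 60, ∀ j < 60, ∃ k < 60, h i * h j = h k) ∧
      (∀ i < 60, ∀ j < 60, h i = h j → i = j) ∧
      (∀ j < 60, ∀ i < 32, ∃ k < 32, h j * q i = q k * h j) ∧
      (∀ i < 32, ∀ j < 60, q i = h j → q i = 1) ∧
      (∃ u v : J3 F ω, (∃ i < 60, h i = u) ∧ (∃ j < 60, h j = v) ∧ u * u = 1 ∧ v ^ 5 = 1 ∧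
        u * v * u * v * u * v = 1 ∧ v ≠ 1) ∧
      (∀ i < 32, ∀ j < 60, orderOf (q i * h j) = 2 → IsConj (tJ h2 hω) (q i * h j)) := by
  obtain ⟨q, hq⟩ := exists_q (F := F) (ω := ω) h2 hω
  obtain ⟨h, hh⟩ := exists_h (F := F) (ω := ω) h2 hω
  have ht := tJ_rep h2 hω
  have hq0 : q 0 = 1 :=
    RepJ.eq (RepJ.congr (hq 0 (by norm_num)) (M9.eq_of_beq q0_id)) RepJ.one
  have hh0 : h 0 = 1 :=
    RepJ.eq (RepJ.congr (hh 0 (by norm_num)) (M9.eq_of_beq h0_id)) RepJ.one
  refine ⟨q, h, ?_, ?_, ?_, ?_, ?_, ?_, ?_, ?_, ?_, ?_⟩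
  · intro i hi
    have hc := QA_all i hi
    unfold chkQA at hc
    rw [Bool.and_eq_true] at hc
    exact RepJ.eq (RepJ.mul h2 hω (hq i hi) ht)
      (RepJ.congr (RepJ.mul h2 hω ht (hq i hi)) (by rw [apA_eq]; exact M9.eq_of_beq hc.1))
  · intro i hi j hj
    have hc := QM_all i hi j hj
    unfold chkQM at hc
    rw [Bool.and_eq_true] at hc
    exact RepJ.eq (RepJ.congr (RepJ.mul h2 hω (hq i hi) (hq j hj)) (M9.eq_of_beq hc.1))
      (hq _ (blt_true hc.2))
  · intro i hi j hj hij
    have hs := RepJ.scal h2 hω hF4 (hq i hi) (hij ▸ hq j hj)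
    have hc := QI_all i hi j hj
    unfold chkQI at hc
    exact beq_true (bor_elim hc hs)
  · intro j hj
    have hc := HA_all j hj
    unfold chkHA at hc
    rw [Bool.and_eq_true] at hc
    exact RepJ.eq (RepJ.mul h2 hω (hh j hj) ht)
      (RepJ.congr (RepJ.mul h2 hω ht (hh j hj)) (by rw [apA_eq]; exact M9.eq_of_beq hc.1))
  · intro i hi j hj
    have hc := HM_all i hi j hj
    unfold chkHM at hc
    rw [Bool.and_eq_true] at hc
    exact ⟨hmt i j, blt_true hc.2,
      RepJ.eq (RepJ.congr (RepJ.mul h2 hω (hh i hi) (hh j hj)) (M9.eq_of_beq hc.1))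
        (hh _ (blt_true hc.2))⟩
  · intro i hi j hj hij
    have hs := RepJ.scal h2 hω hF4 (hh i hi) (hij ▸ hh j hj)
    have hc := HI_all i hi j hj
    unfold chkHI at hc
    exact beq_true (bor_elim hc hs)
  · intro j hj i hi
    have hc := NR_all j hj i hi
    unfold chkNR at hc
    rw [Bool.and_eq_true] at hc
    exact ⟨nrm j i, blt_true hc.2,
      RepJ.eq (RepJ.congr (RepJ.mul h2 hω (hh j hj) (hq i hi)) (M9.eq_of_beq hc.1))
        (RepJ.mul h2 hω (hq _ (blt_true hc.2)) (hh j hj))⟩
  · intro i hi j hj hij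
    have hs := RepJ.scal h2 hω hF4 (hq i hi) (hij ▸ hh j hj)
    have hc := DJ_all i hi j hj
    unfold chkDJ at hc
    have hi0 : i = 0 := beq_true (bor_elim hc hs)
    rw [hi0]; exact hq0
  · refine ⟨h 36, h 40, ⟨36, by norm_num, rfl⟩, ⟨40, by norm_num, rfl⟩, ?_, ?_, ?_, ?_⟩
    · exact RepJ.eq (RepJ.congr (RepJ.mul h2 hω (hh 36 (by norm_num)) (hh 36 (by norm_num)))
        (M9.eq_of_beq u_sq)) RepJ.one
    · have hv := hh 40 (by norm_num)
      have e : h 40 ^ 5 = h 40 * (h 40 * (h 40 * (h 40 * h 40))) := by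
        simp only [pow_succ, pow_zero, one_mul, mul_assoc]
      rw [e]
      exact RepJ.eq (RepJ.congr (RepJ.mul h2 hω hv (RepJ.mul h2 hω hv (RepJ.mul h2 hω hv
        (RepJ.mul h2 hω hv hv)))) (M9.eq_of_beq v_pow)) RepJ.one
    · have hu := hh 36 (by norm_num)
      have hv := hh 40 (by norm_num)
      have huv := RepJ.mul h2 hω hu hv
      have e : h 36 * h 40 * h 36 * h 40 * h 36 * h 40 =
          (h 36 * h 40) * ((h 36 * h 40) * (h 36 * h 40)) := by simp only [mul_assoc]
      rw [e]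
      exact RepJ.eq (RepJ.congr (RepJ.mul h2 hω huv (RepJ.mul h2 hω huv huv))
        (M9.eq_of_beq uv_cube)) RepJ.one
    · intro hv1
      have hs := RepJ.scal h2 hω hF4 (RepJ.one (F := F) (ω := ω)) (hv1 ▸ hh 40 (by norm_num))
      rw [v_ne] at hs
      exact Bool.false_ne_true hs
  · intro i hi j hj hord
    have hy := RepJ.mul h2 hω (hq i hi) (hh j hj)
    have hsq : (q i * h j) * (q i * h j) = 1 := by
      have := pow_orderOf_eq_one (q i * h j)
      rw [hord, pow_two] at this
      exact this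
    have hs := RepJ.scal h2 hω hF4 (RepJ.one (F := F) (ω := ω)) (hsq ▸ RepJ.mul h2 hω hy hy)
    have hc := IV_all i hi j hj
    unfold chkIV at hc
    rw [Bool.or_eq_true, Bool.or_eq_true] at hc
    rcases hc with (hc | hc) | hc
    · rw [hs] at hc
      exact absurd hc (by decide)
    · rw [Bool.and_eq_true] at hc
      exfalso
      rw [beq_true hc.1, beq_true hc.2, hq0, hh0, one_mul, orderOf_one] at hord
      exact absurd hord (by norm_num)
    · simp only [Bool.and_eq_true] at hc
      obtain ⟨⟨hc1, hc2⟩, hc3⟩ := hc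
      obtain ⟨g, hg, hR⟩ := J3.exists_of_sift h2 hω _ _ _ (blt_true hc1) (blt_true hc2) rfl
      have hz : RepJ ω (QuotientGroup.mk ⟨g, hg⟩ : J3 F ω) _ := ⟨⟨g, hg⟩, hR, rfl⟩
      unfold cjOK at hc3
      have e := M9.eq_of_beq hc3
      rw [← apA_eq] at e
      exact (RepJ.isConj h2 hω hz hy ht e).symm

end

end Cfsg.Agent.Lib.Helper37.Inv
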