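import Mathlib

/-!
Multiplication table of the extraspecial group `2^{1+4}_-` (order 32) in a fixed labelling by
`0, …, 31`: `qm i j` is the label of the product of the elements labelled `i` and `j`
(`0` is the identity, `16` the central involution).  Used for the involution centraliser of `J₃`.
-/

set_option autoImplicit false

namespace Cfsg.Agent.Lib.Helper37.Inv

/-- the packed table: entry `(i, j)` in bits `5 * (32 * i + j) ..+ 5` -/
def qmLit : ℕ := 3131815318931605799017352898180083700614395106333216688635145048330707193478044638454939549453868501250975014099819339841479959262196387692129485346335098971813135407128417143722695700089505913998713875528333465145557242291083060587311364101132061686079784677417031739725676174985558881802563065842571865626640271463345186033658155857323271627150758911737285253598124833038375853077863711179595175090934519939478646390363387833607863934576575367454909639395772077953381910581496560762374434080887271296686508223695212260736848981241547700454288088175766254616290353841093816687885258881300981079862306177418549770453690540757062707454454011097108913553992515471153355634597351139037797587042487279260260499753073232367148068935428216504939125489284928249486693615923317440154543110506668283735413002510526757679772839421987658928614880109049196577364414556480877128843459831720743368274537211295397653596821592334268238360660260961209722848280721921859106369527914914023217753763831836303545256771999367463303486535263885924750588843420470906031764747564528209421044254373493071303922247691154929944710742104154796382686452538597656265673783792855651493023557349737434470898611398520044317391591971662238611632025270803668053290453276105335505147868758803122872092034755593872426145323011797871488530703654184001925289476090680462539628740318005465477868994358357578417147699186973052210944171812256528258784418751017409569850430548079335637493167011812082355970777210094947460596123070218850248320550317775908729650687395912021021154183200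

/-- multiplication table of `2^{1+4}_-` on labels `0..31` -/
def qm (i j : ℕ) : ℕ := (qmLit >>> (5 * (32 * i + j))) % 32

end Cfsg.Agent.Lib.Helper37.Inv
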