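import Cfsg.Agent.Lib.Helper37.Inv.Glue
import Cfsg.Agent.Lib.Helper46.J3IV
import Cfsg.Agent.Lib.Helper46.J3IW
import Cfsg.Agent.Lib.Helper5.J3IS1
import Cfsg.Agent.Lib.Helper5.J3IS2
import Cfsg.Agent.Lib.Helper99.J3IS
import Cfsg.Agent.Lib.Helper43.J3IX

/-!
Library form of the involution facts of `J₃`: the centraliser of `t` has order 1920, every
involution is conjugate to `t`, and the table of all 26163 involutions with its matrix codes.
-/

set_option autoImplicit false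

namespace Cfsg.Agent.Lib.Helper37.Inv

open Cfsg.Spor Subgroup Cfsg.Agent.Lib.Helper37.J3

section

variable {F : Type*} [Field F] {ω : F} (h2 : (2 : F) = 0) (hω : ω * ω = ω + 1)

/-- 26163 distinct conjugates of `t`, with their codes -/
theorem class_data2 (hF4 : ∀ c : F, c = 0 ∨ c = 1 ∨ c = ω ∨ c = ω + 1) :
    ∃ x : ℕ → J3 F ω, (∀ i < 26163, RepJ ω (x i) (XC i)) ∧
      (∀ i < 26163, IsConj (tJ h2 hω) (x i)) ∧
      (∀ i < 26163, ∀ j < 26163, x i = x j → i = j) := by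
  have hZ := card_center h2 hω hF4
  have ht := class_tree h2 hω
  have h : ∀ i, ∃ g : threeJ3 F ω, i < 26163 →
      J3.Rep ω ((g : GL F9 F) * aG h2 hω * (g : GL F9 F)⁻¹) (XC i) := by
    intro i
    by_cases hi : i < 26163
    · obtain ⟨g, hg, hR⟩ := ht i hi
      rw [← threeJ3_eq h2 hω] at hg
      exact ⟨⟨g, hg⟩, fun _ => hR⟩
    · exact ⟨1, fun h => absurd h hi⟩
  choose g hg using h
  let a : threeJ3 F ω := ⟨aG h2 hω, aG_mem h2 hω⟩
  have ha : a * a = 1 := Subtype.ext (aG_sq h2 hω)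
  have hXsq : ∀ i, (g i * a * (g i)⁻¹) * (g i * a * (g i)⁻¹) = 1 := by
    intro i
    calc (g i * a * (g i)⁻¹) * (g i * a * (g i)⁻¹) = g i * (a * a) * (g i)⁻¹ := by group
      _ = 1 := by rw [ha]; group
  refine ⟨fun i => QuotientGroup.mk (g i * a * (g i)⁻¹), ?_, ?_, ?_⟩
  · intro i hi
    exact ⟨g i * a * (g i)⁻¹, hg i hi, rfl⟩
  · intro i hi
    rw [isConj_iff]
    exact ⟨QuotientGroup.mk (g i), rfl⟩
  · intro i hi j hj hij
    have e := invol_inj hZ _ _ (hXsq i) (hXsq j) hij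
    have e' : dM ω (XC i) = dM ω (XC j) := by
      have h1 := hg i hi
      have h2' := hg j hj
      unfold J3.Rep at h1 h2'
      rw [← h1, ← h2']
      exact congrArg (fun y : threeJ3 F ω => ((y : GL F9 F) : Matrix F9 F9 F)) e
    have hk := keyM_eq_of h2 hω one_ne_zero e'
    by_contra hne
    rcases Nat.lt_or_gt_of_ne hne with hlt | hgt
    · exact absurd hk (Nat.ne_of_lt (key_mono j i hlt hj))
    · exact absurd hk.symm (Nat.ne_of_lt (key_mono i j hgt hi))

/-- the centraliser of `t` has order 1920 and all involutions are conjugate to `t` -/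
theorem cent_facts (hF4 : ∀ c : F, c = 0 ∨ c = 1 ∨ c = ω ∨ c = ω + 1) :
    Nat.card (Subgroup.centralizer ({tJ h2 hω} : Set (J3 F ω))) = 1920 ∧
      ∀ y : J3 F ω, orderOf y = 2 → IsConj (tJ h2 hω) y := by
  have hJ := card_J3 h2 hω hF4
  have : Finite (J3 F ω) := Nat.finite_of_card_ne_zero (by rw [hJ]; norm_num)
  obtain ⟨x, hx, hxinj⟩ := class_data h2 hω hF4
  obtain ⟨q, h, hqt, hqmul, hqinj, hht, hhmul, hhinj, hnorm, hdisj, hA5, hinv⟩ :=
    inv_data h2 hω hF4
  have hW := Cfsg.Agent.Lib.Helper46.J3IW.card_centralizer_le (tJ h2 hω) 26163 x hx hxinj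
  rw [hJ] at hW
  have hcard : Nat.card (Subgroup.centralizer ({tJ h2 hω} : Set (J3 F ω))) ≤ 1920 := by omega
  have hqm : ∀ i < 32, ∀ j < 32, qm i j < 32 := by decide
  obtain ⟨hall, hC, -⟩ := Cfsg.Agent.Lib.Helper99.J3IS.centralizer_structure
    (tJ h2 hω) qm
    (fun P _ f => Cfsg.Agent.Lib.Helper43.J3IX.extra_of_table f)
    (fun G _ n hn f => Cfsg.Agent.Lib.Helper5.J3IS1.exists_subgroup_of_table n hn f)
    (fun C _ _ Q H => Cfsg.Agent.Lib.Helper5.J3IS2.split_structure Q H)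
    hqm hcard q h hqt hqmul hqinj hht hhmul hhinj hnorm hdisj hA5
  have hodd : ¬ 2 ∣ (Subgroup.centralizer ({tJ h2 hω} : Set (J3 F ω))).index := by
    have hi := Subgroup.card_mul_index (Subgroup.centralizer ({tJ h2 hω} : Set (J3 F ω)))
    rw [hC, hJ] at hi
    omega
  refine ⟨hC, fun y hy => ?_⟩
  refine Cfsg.Agent.Lib.Helper46.J3IV.invol_conj_of_odd_index _ hodd ?_ _ _
    (tJ_order h2 hω hF4) hy
  intro y hy hy2
  obtain ⟨i, hi, j, hj, rfl⟩ := hall y hy
  exact hinv i hi j hj hy2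

end

end Cfsg.Agent.Lib.Helper37.Inv
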