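import Cfsg.Agent.Lib.Helper37.J3Quot
import Cfsg.Agent.Lib.Helper37.Inv.Tab

/-!
Classes of packed matrices in `J₃ = 3·J₃ / Z`: the relation `RepJ` and its calculus.
-/

set_option autoImplicit false

namespace Cfsg.Agent.Lib.Helper37.Inv

open Cfsg.Spor Subgroup Cfsg.Agent.Lib.Helper37.J3

section

variable {F : Type*} [Field F] {ω : F}

theorem row_scM (c : ℕ) (M : M9) (w : F9) : (scM c M).row (pos w) = sc c (M.row (pos w)) := by
  refine pos_cases (fun k => (scM c M).row k = sc c (M.row k)) ?_ ?_ ?_ ?_ ?_ ?_ ?_ ?_ ?_ w <;> rfl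

theorem dM_scM (h2 : (2 : F) = 0) (hω : ω * ω = ω + 1) (c : ℕ) (hc : c < 4) (M : M9) :
    dM ω (scM c M) = cF ω c • dM ω M := by
  funext w z
  have h := congrFun (dV_sc h2 hω c hc (M.row (pos w))) z
  rw [dM, row_scM, h]
  rfl

/-- `x ∈ J₃` is the class of the matrix with code `M` -/
def RepJ (ω : F) (x : J3 F ω) (M : M9) : Prop :=
  ∃ g : threeJ3 F ω, Rep ω (g : GL F9 F) M ∧ (QuotientGroup.mk g : J3 F ω) = x

theorem RepJ.mul (h2 : (2 : F) = 0) (hω : ω * ω = ω + 1) {x y : J3 F ω} {M N : M9}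
    (hx : RepJ ω x M) (hy : RepJ ω y N) : RepJ ω (x * y) (mm M N) := by
  obtain ⟨g, hg, rfl⟩ := hx
  obtain ⟨k, hk, rfl⟩ := hy
  exact ⟨g * k, Rep.mul h2 hω hg hk, rfl⟩

theorem RepJ.one : RepJ ω (1 : J3 F ω) ID := ⟨1, Rep.one, rfl⟩

theorem RepJ.eq {x y : J3 F ω} {M : M9} (hx : RepJ ω x M) (hy : RepJ ω y M) : x = y := by
  obtain ⟨g, hg, rfl⟩ := hx
  obtain ⟨k, hk, rfl⟩ := hy
  rw [Subtype.ext (Rep.unique hg hk)]

theorem RepJ.congr {x : J3 F ω} {M N : M9} (hx : RepJ ω x M) (h : M = N) : RepJ ω x N := h ▸ hx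

theorem RepJ.scal (h2 : (2 : F) = 0) (hω : ω * ω = ω + 1)
    (hF4 : ∀ c : F, c = 0 ∨ c = 1 ∨ c = ω ∨ c = ω + 1) {x : J3 F ω} {M M' : M9}
    (hx : RepJ ω x M) (hx' : RepJ ω x M') : scalEq M M' = true := by
  obtain ⟨g, hg, rfl⟩ := hx
  obtain ⟨k, hk, hkx⟩ := hx'
  have hmem : g⁻¹ * k ∈ center (threeJ3 F ω) := QuotientGroup.eq.mp hkx.symm
  obtain ⟨c, hc⟩ := (center_iff h2 hω _).mp hmem
  have hk' : ((k : GL F9 F) : Matrix F9 F9 F) = c • ((g : GL F9 F) : Matrix F9 F9 F) := by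
    have e : k = g * (g⁻¹ * k) := by group
    have e' : ((k : GL F9 F) : Matrix F9 F9 F) =
        ((g : GL F9 F) : Matrix F9 F9 F) * (((g⁻¹ * k : threeJ3 F ω) : GL F9 F) : Matrix F9 F9 F) := by
      conv_lhs => rw [e]
      rfl
    rw [e', hc, Matrix.mul_smul, mul_one]
  unfold J3.Rep at hg hk
  rw [hg, hk] at hk'
  have h1 : (1 : F) ≠ 0 := one_ne_zero
  unfold scalEq
  rcases hF4 c with h0 | h0 | h0 | h0
  · exfalso
    rw [h0, zero_smul] at hk'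
    have e : ((k : GL F9 F) : Matrix F9 F9 F) * (((k : GL F9 F)⁻¹ : GL F9 F) : Matrix F9 F9 F) = 1 := by
      rw [← Units.val_mul, mul_inv_cancel]; rfl
    rw [hk, hk', zero_mul] at e
    have := congrFun (congrFun e 0) 0
    simp at this
  · rw [h0, one_smul] at hk'
    rw [keyM_eq_of h2 hω h1 hk', Nat.beq_refl]; rfl
  · have e : dM ω M' = dM ω (scM 2 M) := by rw [dM_scM h2 hω 2 (by norm_num), cF_two, hk', h0]
    rw [keyM_eq_of h2 hω h1 e, Nat.beq_refl]; simp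
  · have e : dM ω M' = dM ω (scM 3 M) := by
      rw [dM_scM h2 hω 3 (by norm_num), cF_three, hk', h0, add_comm]
    rw [keyM_eq_of h2 hω h1 e, Nat.beq_refl]; simp

theorem RepJ.of_sift (h2 : (2 : F) = 0) (hω : ω * ω = ω + 1) (M : M9) (e : ℕ)
    (h : sftOK M e = true) : ∃ x : J3 F ω, RepJ ω x M := by
  unfold sftOK at h
  simp only [Bool.and_eq_true] at h
  obtain ⟨⟨h1, h2'⟩, h3⟩ := h
  obtain ⟨g, hg, hR⟩ := J3.exists_of_sift h2 hω M _ _ (blt_true h2') (blt_true h3) (M9.eq_of_beq h1)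
  exact ⟨QuotientGroup.mk ⟨g, hg⟩, ⟨g, hg⟩, hR, rfl⟩

/-- the involution `t` of `J₃` -/
noncomputable def tJ (h2 : (2 : F) = 0) (hω : ω * ω = ω + 1) : J3 F ω :=
  QuotientGroup.mk ⟨aG h2 hω, aG_mem h2 hω⟩

theorem tJ_rep (h2 : (2 : F) = 0) (hω : ω * ω = ω + 1) : RepJ ω (tJ h2 hω) Acode :=
  ⟨_, aG_rep h2 hω, rfl⟩

theorem RepJ.isConj (h2 : (2 : F) = 0) (hω : ω * ω = ω + 1) {x y z : J3 F ω} {G X Y : M9}
    (hz : RepJ ω z G) (hx : RepJ ω x X) (hy : RepJ ω y Y) (h : mm G X = mm Y G) : IsConj x y := by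
  rw [isConj_iff]
  refine ⟨z, ?_⟩
  have e : z * x = y * z :=
    RepJ.eq (RepJ.mul h2 hω hz hx) (RepJ.congr (RepJ.mul h2 hω hy hz) h.symm)
  rw [e, mul_inv_cancel_right]

theorem rep_conj (h2 : (2 : F) = 0) (hω : ω * ω = ω + 1) {s X : GL F9 F} {S P Y : M9}
    (hs : Rep ω s S) (hX : Rep ω X P) (h : mm S P = mm Y S) : Rep ω (s * X * s⁻¹) Y := by
  unfold J3.Rep at *
  have e : (s : Matrix F9 F9 F) * (X : Matrix F9 F9 F) = dM ω Y * (s : Matrix F9 F9 F) := by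
    rw [hs, hX, ← dM_mm h2 hω, h, dM_mm h2 hω]
  rw [Units.val_mul, Units.val_mul, e, Matrix.mul_assoc, ← Units.val_mul, mul_inv_cancel,
    Units.val_one, Matrix.mul_one]

/-- involutions of `3·J₃` with the same image in `J₃` are equal -/
theorem invol_inj {G : Type*} [Group G] (hZ : Nat.card (center G) = 3) (g k : G)
    (hg : g * g = 1) (hk : k * k = 1)
    (h : (QuotientGroup.mk g : G ⧸ center G) = QuotientGroup.mk k) : g = k := by
  have hmem : g⁻¹ * k ∈ center G := QuotientGroup.eq.mp h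
  have hz3 : (g⁻¹ * k) ^ 3 = 1 := by
    have := pow_card_eq_one' (G := center G) (x := ⟨g⁻¹ * k, hmem⟩)
    rw [hZ] at this
    exact congrArg Subtype.val this
  have hcomm : ∀ y : G, y * (g⁻¹ * k) = (g⁻¹ * k) * y := fun y =>
    (Subgroup.mem_center_iff.mp hmem y)
  have hz2 : (g⁻¹ * k) ^ 2 = 1 := by
    have e1 : g⁻¹ = g := inv_eq_of_mul_eq_one_right hg
    have e2 : k * (g⁻¹ * k) = (g⁻¹ * k) * k := hcomm k
    calc (g⁻¹ * k) ^ 2 = g⁻¹ * (k * (g⁻¹ * k)) := by rw [pow_two]; group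
      _ = g⁻¹ * ((g⁻¹ * k) * k) := by rw [e2]
      _ = (g⁻¹ * g⁻¹) * (k * k) := by group
      _ = 1 := by rw [hk, e1, hg, mul_one]
  have hz1 : g⁻¹ * k = 1 := by
    have : (g⁻¹ * k) ^ 3 = (g⁻¹ * k) ^ 2 * (g⁻¹ * k) := pow_succ _ 2
    rw [hz3, hz2, one_mul] at this
    exact this.symm
  exact (inv_mul_eq_one.mp hz1)

end

end Cfsg.Agent.Lib.Helper37.Inv
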